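import Groth.Agent.EtaLib.SpecUH

/-!
# Elementwise criteria for universal homeomorphisms of affine schemes

`Lies res A b`: `b` is integral over `A`, maps to fields agreeing on `A` agree on `b`, and (if `res`)
the residue of `b` at every prime comes from `A`. The step "`b², b³ ∈ S`" (or, if `¬ res`,
"`p b, b^p ∈ S`") preserves this.
-/

set_option autoImplicit false
set_option backward.isDefEq.respectTransparency.types false

universe u

open CategoryTheory AlgebraicGeometry

namespace Groth.Agent.UHTower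

variable (res : Prop) {A B C : Type u} [CommRing A] [CommRing B] [CommRing C] [Algebra A B]
  [Algebra A C]

/-- One step of a tower. -/
def Step (S : Subalgebra A B) (b : B) : Prop :=
  (b ^ 2 ∈ S ∧ b ^ 3 ∈ S) ∨ (¬ res ∧ ∃ p : ℕ, p.Prime ∧ (p : B) * b ∈ S ∧ b ^ p ∈ S)

/-- The residue of `b` at `Q` comes from `A`. -/
def ResAt (A : Type u) [CommRing A] [Algebra A B] (Q : Ideal B) (b : B) : Prop :=
  ∃ a s : A, algebraMap A B s ∉ Q ∧ algebraMap A B s * b - algebraMap A B a ∈ Q

/-- `b` lies in the universally homeomorphic part. -/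
def Lies (A : Type u) [CommRing A] [Algebra A B] (b : B) : Prop :=
  IsIntegral A b ∧
    (∀ (K : Type u) [Field K] (g g' : B →+* K),
      g.comp (algebraMap A B) = g'.comp (algebraMap A B) → g b = g' b) ∧
    (res → ∀ Q : Ideal B, Q.IsPrime → ResAt A Q b)

/-- Every element lies in the universally homeomorphic part. -/
def Good (A B : Type u) [CommRing A] [CommRing B] [Algebra A B] : Prop := ∀ b : B, Lies res A b

variable {res}

lemma Lies.of_algebraMap (a : A) : Lies res A (algebraMap A B a) := by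
  refine ⟨isIntegral_algebraMap, fun K _ g g' h ↦ RingHom.congr_fun h a, fun _ Q hQ ↦ ⟨a, 1, ?_, ?_⟩⟩
  · rw [map_one]
    exact fun h ↦ hQ.ne_top (Q.eq_top_iff_one.mpr h)
  · simp

variable (res A B) in
/-- The elements which lie, as a subalgebra. -/
def liesSubalgebra : Subalgebra A B where
  carrier := {b | Lies res A b}
  algebraMap_mem' a := Lies.of_algebraMap a
  mul_mem' := by
    rintro x y ⟨hx1, hx2, hx3⟩ ⟨hy1, hy2, hy3⟩
    refine ⟨hx1.mul hy1, fun K _ g g' h ↦ by rw [map_mul, map_mul, hx2 K g g' h, hy2 K g g' h],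
      fun hr Q hQ ↦ ?_⟩
    obtain ⟨a, s, hs, hxa⟩ := hx3 hr Q hQ
    obtain ⟨a', s', hs', hya⟩ := hy3 hr Q hQ
    refine ⟨a * a', s * s', ?_, ?_⟩
    · rw [map_mul]
      exact fun h ↦ (hQ.mem_or_mem h).elim hs hs'
    · have : algebraMap A B (s * s') * (x * y) - algebraMap A B (a * a') =
          (algebraMap A B s * x - algebraMap A B a) * (algebraMap A B s' * y) +
            algebraMap A B a * (algebraMap A B s' * y - algebraMap A B a') := by
        rw [map_mul, map_mul]; ring
      rw [this]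
      exact Q.add_mem (Q.mul_mem_right _ hxa) (Q.mul_mem_left _ hya)
  add_mem' := by
    rintro x y ⟨hx1, hx2, hx3⟩ ⟨hy1, hy2, hy3⟩
    refine ⟨hx1.add hy1, fun K _ g g' h ↦ by rw [map_add, map_add, hx2 K g g' h, hy2 K g g' h],
      fun hr Q hQ ↦ ?_⟩
    obtain ⟨a, s, hs, hxa⟩ := hx3 hr Q hQ
    obtain ⟨a', s', hs', hya⟩ := hy3 hr Q hQ
    refine ⟨a * s' + a' * s, s * s', ?_, ?_⟩
    · rw [map_mul]
      exact fun h ↦ (hQ.mem_or_mem h).elim hs hs'
    · have : algebraMap A B (s * s') * (x + y) - algebraMap A B (a * s' + a' * s) =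
          algebraMap A B s' * (algebraMap A B s * x - algebraMap A B a) +
            algebraMap A B s * (algebraMap A B s' * y - algebraMap A B a') := by
        rw [map_mul, map_add, map_mul, map_mul]; ring
      rw [this]
      exact Q.add_mem (Q.mul_mem_left _ hxa) (Q.mul_mem_left _ hya)

lemma mem_liesSubalgebra {b : B} : b ∈ liesSubalgebra res A B ↔ Lies res A b := Iff.rfl

/-- The step lemma. -/
theorem Lies.of_step {b : B} (h : Step res (liesSubalgebra res A B) b) : Lies res A b := by
  rcases h with ⟨⟨h2i, h2f, h2r⟩, ⟨h3i, h3f, h3r⟩⟩ | ⟨hres, p, hp, ⟨-, hpf, -⟩, ⟨hpi, hppf, -⟩⟩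
  · refine ⟨IsIntegral.of_pow two_pos h2i, fun K _ g g' h ↦ ?_, fun hr Q hQ ↦ ?_⟩
    · have e2 := h2f K g g' h
      have e3 := h3f K g g' h
      simp only [map_pow] at e2 e3
      by_cases h0 : g b = 0
      · rw [h0, zero_pow two_ne_zero, eq_comm] at e2
        rw [h0, eq_zero_of_pow_eq_zero e2]
      · calc g b = g b ^ 3 / g b ^ 2 := by field_simp
          _ = g' b ^ 3 / g' b ^ 2 := by rw [e2, e3]
          _ = g' b := by
            have : g' b ≠ 0 := fun h1 ↦ h0 (eq_zero_of_pow_eq_zero (e2.trans (by rw [h1]; simp)))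
            field_simp
    · by_cases hb : b ∈ Q
      · refine ⟨0, 1, ?_, ?_⟩
        · rw [map_one]
          exact fun h ↦ hQ.ne_top (Q.eq_top_iff_one.mpr h)
        · simpa using hb
      · obtain ⟨a2, s2, hs2, h2⟩ := h2r hr Q hQ
        obtain ⟨a3, s3, hs3, h3⟩ := h3r hr Q hQ
        refine ⟨s2 * a3, s3 * a2, ?_, ?_⟩
        · rw [map_mul]
          refine fun h ↦ (hQ.mem_or_mem h).elim hs3 fun ha2 ↦ ?_
          have h4 : algebraMap A B s2 * b ^ 2 ∈ Q := by
            simpa using Q.add_mem h2 ha2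
          exact (hQ.mem_or_mem h4).elim hs2 fun h5 ↦ hb (hQ.mem_of_pow_mem 2 h5)
        · have : algebraMap A B (s3 * a2) * b - algebraMap A B (s2 * a3) =
              algebraMap A B s2 * (algebraMap A B s3 * b ^ 3 - algebraMap A B a3) -
                algebraMap A B s3 * b * (algebraMap A B s2 * b ^ 2 - algebraMap A B a2) := by
            rw [map_mul, map_mul]; ring
          rw [this]
          exact Q.sub_mem (Q.mul_mem_left _ h3) (Q.mul_mem_left _ h2)
  · refine ⟨IsIntegral.of_pow hp.pos hpi, fun K _ g g' h ↦ ?_, fun hr ↦ absurd hr hres⟩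
    have e1 := hpf K g g' h
    have e2 := hppf K g g' h
    simp only [map_mul, map_natCast, map_pow] at e1 e2
    by_cases h0 : (p : K) = 0
    · have : CharP K p := (CharP.charP_iff_prime_eq_zero hp).mpr h0
      have : Fact p.Prime := ⟨hp⟩
      exact frobenius_inj K p e2
    · exact mul_left_cancel₀ h0 e1

lemma Step.mono {S T : Subalgebra A B} (hST : S ≤ T) {b : B} (h : Step res S b) : Step res T b := by
  rcases h with ⟨h1, h2⟩ | ⟨h0, p, hp, h1, h2⟩
  · exact Or.inl ⟨hST h1, hST h2⟩
  · exact Or.inr ⟨h0, p, hp, hST h1, hST h2⟩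

lemma Lies.map (f : C →ₐ[A] B) {c : C} (h : Lies res A c) : Lies res A (f c) := by
  refine ⟨h.1.map f, fun K _ g g' e ↦ h.2.1 K (g.comp f.toRingHom) (g'.comp f.toRingHom) ?_,
    fun hr Q hQ ↦ ?_⟩
  · exact RingHom.ext fun a ↦ by simpa using RingHom.congr_fun e a
  · obtain ⟨a, s, hs, hm⟩ := h.2.2 hr (Q.comap f) inferInstance
    refine ⟨a, s, ?_, ?_⟩
    · simpa only [Ideal.mem_comap, AlgHom.commutes] using hs
    · simpa only [Ideal.mem_comap, map_sub, map_mul, AlgHom.commutes] using hm

/-- An algebra generated by elements which lie is good. -/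
theorem good_of_adjoin {s : Set B} (hs : Algebra.adjoin A s = ⊤) (h : ∀ b ∈ s, Lies res A b) :
    Good res A B := fun b ↦
  (Algebra.adjoin_le h : Algebra.adjoin A s ≤ liesSubalgebra res A B) (hs ▸ Algebra.mem_top)

lemma Good.isIntegral (h : Good res A B) : (algebraMap A B).IsIntegral := fun b ↦ (h b).1

lemma Good.field_inj (h : Good res A B) (K : Type u) [Field K] (g g' : B →+* K)
    (e : g.comp (algebraMap A B) = g'.comp (algebraMap A B)) : g = g' :=
  RingHom.ext fun b ↦ (h b).2.1 K g g' e

/-- Residue field surjectivity in terms of elements. -/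
theorem surjective_residueFieldMap_iff (φ : A →+* B) :
    (∀ x : Spec (CommRingCat.of B),
      Function.Surjective ((Spec.map (CommRingCat.ofHom φ)).residueFieldMap x)) ↔
    ∀ Q : Ideal B, Q.IsPrime → ∀ b : B, ∃ a s : A, φ s ∉ Q ∧ φ s * b - φ a ∈ Q := by
  have key : ∀ x : PrimeSpectrum B,
      Function.Surjective ((Spec.map (CommRingCat.ofHom φ)).residueFieldMap x) ↔
        Function.Surjective
          (Ideal.ResidueField.map (PrimeSpectrum.comap φ x).asIdeal x.asIdeal φ rfl) := by
    intro x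
    let eA := (Scheme.Spec.residueFieldIso (CommRingCat.of A)
      (PrimeSpectrum.comap φ x)).commRingCatIsoToRingEquiv
    let eB := (Scheme.Spec.residueFieldIso (CommRingCat.of B) x).commRingCatIsoToRingEquiv
    have h1 : ⇑(Ideal.ResidueField.map (PrimeSpectrum.comap φ x).asIdeal x.asIdeal φ rfl) =
        eB ∘ ((Spec.map (CommRingCat.ofHom φ)).residueFieldMap x) ∘ eA.symm := funext fun r ↦
      (RingHom.congr_fun (congrArg CommRingCat.Hom.hom (EtaLib.residueFieldMap_Spec φ x)) r).symm
    rw [h1]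
    constructor
    · exact fun h ↦ eB.surjective.comp (h.comp eA.symm.surjective)
    · intro h y
      obtain ⟨r, hr⟩ := h (eB y)
      exact ⟨eA.symm r, eB.injective hr⟩
  have hzero : ∀ (Q : Ideal B) [Q.IsPrime] (z : B), algebraMap B Q.ResidueField z = 0 ↔ z ∈ Q :=
    fun Q _ z ↦ Ideal.algebraMap_residueField_eq_zero
  constructor
  · intro h Q hQ b
    let x : PrimeSpectrum B := ⟨Q, hQ⟩
    obtain ⟨r, hr⟩ := (key x).mp (h x) (algebraMap B Q.ResidueField b)
    obtain ⟨u, w, hw, rfl⟩ := IsFractionRing.div_surjective (A := A ⧸ (PrimeSpectrum.comap φ x).asIdeal) r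
    obtain ⟨a, rfl⟩ := Ideal.Quotient.mk_surjective u
    obtain ⟨s, rfl⟩ := Ideal.Quotient.mk_surjective w
    have hs : φ s ∉ Q := fun hs ↦
      nonZeroDivisors.ne_zero hw (Ideal.Quotient.eq_zero_iff_mem.mpr hs)
    refine ⟨a, s, hs, ?_⟩
    rw [← hzero Q]
    have hs' : algebraMap B Q.ResidueField (φ s) ≠ 0 := fun h0 ↦ hs ((hzero Q _).mp h0)
    have hr' : algebraMap B Q.ResidueField (φ a) / algebraMap B Q.ResidueField (φ s) =
        algebraMap B Q.ResidueField b := by
      rw [← hr, map_div₀]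
      exact congrArg₂ (· / ·) (Ideal.ResidueField.map_algebraMap _ _ φ rfl a).symm
        (Ideal.ResidueField.map_algebraMap _ _ φ rfl s).symm
    rw [map_sub, map_mul, ← hr']
    field_simp
    ring
  · intro h x
    refine (key x).mpr ?_
    have hb : ∀ b : B, algebraMap B x.asIdeal.ResidueField b ∈ Set.range
        (Ideal.ResidueField.map (PrimeSpectrum.comap φ x).asIdeal x.asIdeal φ rfl) := by
      intro b
      obtain ⟨a, s, hs, hm⟩ := h x.asIdeal x.isPrime b
      refine ⟨algebraMap A _ a / algebraMap A _ s, ?_⟩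
      rw [map_div₀, Ideal.ResidueField.map_algebraMap, Ideal.ResidueField.map_algebraMap]
      rw [← hzero x.asIdeal, map_sub, map_mul, sub_eq_zero] at hm
      rw [← hm, mul_div_cancel_left₀ _ (fun h0 ↦ hs ((hzero _ _).mp h0))]
    intro y
    obtain ⟨u, w, -, rfl⟩ := IsFractionRing.div_surjective (A := B ⧸ x.asIdeal) y
    obtain ⟨b, rfl⟩ := Ideal.Quotient.mk_surjective u
    obtain ⟨d, rfl⟩ := Ideal.Quotient.mk_surjective w
    obtain ⟨r, hr⟩ := hb b
    obtain ⟨r', hr'⟩ := hb d
    exact ⟨r / r', by rw [map_div₀, hr, hr']; rfl⟩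

/-- The residue fields hypothesis, in the two cases. -/
def ResHyp (res : Prop) (φ : A →+* B) : Prop :=
  res → ∀ x : Spec (CommRingCat.of B),
    Function.Surjective ((Spec.map (CommRingCat.ofHom φ)).residueFieldMap x)

/-- Universal homeomorphisms of spectra in terms of elements. -/
theorem good_iff (hs : Function.Surjective (PrimeSpectrum.comap (algebraMap A B))) :
    Good res A B ↔ FlatMor.IsUnivHomeo (Spec.map (CommRingCat.ofHom (algebraMap A B))) ∧
      ResHyp res (algebraMap A B) := by
  constructor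
  · intro h
    refine ⟨(EtaLib.isUnivHomeo_Spec_iff _).mpr ⟨h.isIntegral, hs, h.field_inj⟩, fun hr ↦ ?_⟩
    exact (surjective_residueFieldMap_iff _).mpr fun Q hQ b ↦ (h b).2.2 hr Q hQ
  · rintro ⟨h, hr⟩ b
    obtain ⟨hi, -, hu⟩ := (EtaLib.isUnivHomeo_Spec_iff _).mp h
    exact ⟨hi b, fun K _ g g' e ↦ RingHom.congr_fun (hu K g g' e) b,
      fun r Q hQ ↦ (surjective_residueFieldMap_iff _).mp (hr r) Q hQ b⟩

theorem good_iff' : (Good res A B ∧ Function.Surjective (PrimeSpectrum.comap (algebraMap A B))) ↔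
    FlatMor.IsUnivHomeo (Spec.map (CommRingCat.ofHom (algebraMap A B))) ∧
      ResHyp res (algebraMap A B) := by
  refine ⟨fun h ↦ (good_iff h.2).mp h.1, fun h ↦ ?_⟩
  have hs := ((EtaLib.isUnivHomeo_Spec_iff _).mp h.1).2.1
  exact ⟨(good_iff hs).mpr h, hs⟩

/-! ## Towers -/

variable (res) in
/-- Towers `A[b₁, …, bₙ]`. -/
inductive Tower : List B → Prop
  | nil : Tower []
  | snoc {l : List B} {b : B} : Tower l → Step res (Algebra.adjoin A {x | x ∈ l}) b →
      Tower (l ++ [b])

lemma Tower.append {l l' : List B} (h : Tower res (A := A) l) (h' : Tower res (A := A) l') :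
    Tower res (A := A) (l ++ l') := by
  induction h' with
  | nil => simpa using h
  | @snoc m b _ hb ih =>
    rw [← List.append_assoc]
    exact ih.snoc (hb.mono (Algebra.adjoin_mono fun x hx ↦ List.mem_append.mpr (Or.inr hx)))

lemma adjoin_earlier_eq (l : List B) (i : Fin l.length) :
    {b : B | ∃ j : Fin l.length, j < i ∧ b = l.get j} = {b | b ∈ l.take i} := by
  ext b
  simp only [Set.mem_setOf_eq, List.mem_take_iff_getElem, List.get_eq_getElem]
  constructor
  · rintro ⟨j, hj, rfl⟩
    exact ⟨j, by omega, rfl⟩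
  · rintro ⟨j, hj, rfl⟩
    exact ⟨⟨j, by omega⟩, (show j < i.val by omega), rfl⟩

lemma Tower.get {l : List B} (h : Tower res (A := A) l) : ∀ i : Fin l.length,
    Step res (Algebra.adjoin A {b : B | ∃ j : Fin l.length, j < i ∧ b = l.get j}) (l.get i) := by
  induction h with
  | nil => exact fun i ↦ i.elim0
  | @snoc m b _ hb ih =>
    intro i
    rw [adjoin_earlier_eq]
    by_cases hi : i.val < m.length
    · have := ih ⟨i, hi⟩
      rw [adjoin_earlier_eq] at this
      simpa [List.take_append_of_le_length hi.le, List.getElem_append_left hi] using this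
    · have : i.val = m.length := by
        have := i.isLt
        simp at this
        omega
      simpa [this] using hb

lemma lies_of_get {l : List B} (h : ∀ i : Fin l.length,
    Step res (Algebra.adjoin A {b : B | ∃ j : Fin l.length, j < i ∧ b = l.get j}) (l.get i)) :
    ∀ b ∈ l, Lies res A b := by
  suffices H : ∀ n, ∀ i : Fin l.length, i.val < n → Lies res A (l.get i) by
    intro b hb
    obtain ⟨i, rfl⟩ := List.get_of_mem hb
    exact H (i.val + 1) i (by omega)
  intro n
  induction n with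
  | zero => exact fun i hi ↦ absurd hi (by omega)
  | succ n ih =>
    intro i hi
    refine Lies.of_step ((h i).mono (Algebra.adjoin_le ?_))
    rintro _ ⟨j, hj, rfl⟩
    exact ih j (by omega)

lemma Tower.lies {l : List B} (h : Tower res (A := A) l) : ∀ b ∈ l, Lies res A b :=
  lies_of_get h.get

end Groth.Agent.UHTower
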