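import Groth.Agent.UHTower.Key

/-!
# Towers exhaust universally homeomorphic extensions
-/

set_option autoImplicit false
set_option backward.isDefEq.respectTransparency.types false

universe u

open CategoryTheory AlgebraicGeometry

namespace Groth.Agent.UHTower

variable {res : Prop} {A B : Type u} [CommRing A] [CommRing B] [Algebra A B]

variable (res A B) in
/-- The union of all towers. -/
def towerUnion : Subalgebra A B where
  carrier := {b | ∃ l : List B, Tower res (A := A) l ∧ b ∈ Algebra.adjoin A {x | x ∈ l}}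
  algebraMap_mem' a := ⟨[], Tower.nil, Subalgebra.algebraMap_mem _ a⟩
  mul_mem' := by
    rintro x y ⟨l, hl, hx⟩ ⟨l', hl', hy⟩
    exact ⟨l ++ l', hl.append hl', mul_mem
      (Algebra.adjoin_mono (fun z hz ↦ List.mem_append.mpr (Or.inl hz)) hx)
      (Algebra.adjoin_mono (fun z hz ↦ List.mem_append.mpr (Or.inr hz)) hy)⟩
  add_mem' := by
    rintro x y ⟨l, hl, hx⟩ ⟨l', hl', hy⟩
    exact ⟨l ++ l', hl.append hl', add_mem
      (Algebra.adjoin_mono (fun z hz ↦ List.mem_append.mpr (Or.inl hz)) hx)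
      (Algebra.adjoin_mono (fun z hz ↦ List.mem_append.mpr (Or.inr hz)) hy)⟩

lemma towerUnion_step {b : B} (h : Step res (towerUnion res A B) b) : b ∈ towerUnion res A B := by
  have key : ∀ {x y : B}, x ∈ towerUnion res A B → y ∈ towerUnion res A B →
      ∃ l, Tower res (A := A) l ∧ x ∈ Algebra.adjoin A {z | z ∈ l} ∧
        y ∈ Algebra.adjoin A {z | z ∈ l} := by
    rintro x y ⟨l, hl, hx⟩ ⟨l', hl', hy⟩
    exact ⟨l ++ l', hl.append hl',
      Algebra.adjoin_mono (fun z hz ↦ List.mem_append.mpr (Or.inl hz)) hx,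
      Algebra.adjoin_mono (fun z hz ↦ List.mem_append.mpr (Or.inr hz)) hy⟩
  rcases h with ⟨h1, h2⟩ | ⟨hr, p, hp, h1, h2⟩
  · obtain ⟨l, hl, hx, hy⟩ := key h1 h2
    exact ⟨l ++ [b], hl.snoc (Or.inl ⟨hx, hy⟩), Algebra.subset_adjoin (by simp)⟩
  · obtain ⟨l, hl, hx, hy⟩ := key h1 h2
    exact ⟨l ++ [b], hl.snoc (Or.inr ⟨hr, p, hp, hx, hy⟩), Algebra.subset_adjoin (by simp)⟩

/-- A universal homeomorphism is exhausted by towers. -/
theorem towerUnion_eq_top (hU : FlatMor.IsUnivHomeo (Spec.map (CommRingCat.ofHom (algebraMap A B))))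
    (hres : ResHyp res (algebraMap A B)) : towerUnion res A B = ⊤ := by
  by_contra hne
  set G := towerUnion res A B with hG
  have hns : ¬ Function.Surjective (algebraMap G B) := fun h ↦ hne (eq_top_iff.mpr fun b _ ↦ by
    obtain ⟨g, rfl⟩ := h b
    exact g.2)
  have hgood : Good res A B := ((good_iff' (res := res)).mpr ⟨hU, hres⟩).1
  have hG' : Good res G B := fun b ↦ by
    obtain ⟨h1, h2, h3⟩ := hgood b
    refine ⟨h1.tower_top, fun K _ g g' e ↦ h2 K g g' ?_, fun hr Q hQ ↦ ?_⟩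
    · exact RingHom.ext fun a ↦ RingHom.congr_fun e (algebraMap A G a)
    · obtain ⟨a, s, hs, hm⟩ := h3 hr Q hQ
      exact ⟨algebraMap A G a, algebraMap A G s, hs, hm⟩
  have hs : Function.Surjective (PrimeSpectrum.comap (algebraMap G B)) :=
    hG'.isIntegral.comap_surjective Subtype.val_injective
  obtain ⟨hU', hres'⟩ := (good_iff hs).mp hG'
  obtain ⟨b, hb, hstep⟩ := exists_step (res := res) Subtype.val_injective hns hU' hres'
  have hbot : ∀ x : B, x ∈ (⊥ : Subalgebra G B) ↔ x ∈ G := fun x ↦ by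
    rw [Algebra.mem_bot]
    exact ⟨fun ⟨g, hg⟩ ↦ hg ▸ g.2, fun hx ↦ ⟨⟨x, hx⟩, rfl⟩⟩
  refine hb ((hbot b).mpr (towerUnion_step ?_))
  rcases hstep with ⟨h1, h2⟩ | ⟨hr, p, hp, h1, h2⟩
  · exact Or.inl ⟨(hbot _).mp h1, (hbot _).mp h2⟩
  · exact Or.inr ⟨hr, p, hp, (hbot _).mp h1, (hbot _).mp h2⟩

/-- Every finite subset lies in a tower. -/
theorem exists_tower (hU : FlatMor.IsUnivHomeo (Spec.map (CommRingCat.ofHom (algebraMap A B))))
    (hres : ResHyp res (algebraMap A B)) (E : Finset B) :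
    ∃ l : List B, Tower res (A := A) l ∧ (E : Set B) ⊆ Algebra.adjoin A {x | x ∈ l} := by
  classical
  induction E using Finset.induction with
  | empty => exact ⟨[], Tower.nil, by simp⟩
  | @insert b E _ ih =>
    obtain ⟨l, hl, hE⟩ := ih
    have hb : b ∈ towerUnion res A B := towerUnion_eq_top hU hres ▸ Algebra.mem_top
    obtain ⟨l', hl', hb'⟩ := hb
    refine ⟨l ++ l', hl.append hl', ?_⟩
    rw [Finset.coe_insert, Set.insert_subset_iff]
    exact ⟨Algebra.adjoin_mono (fun z hz ↦ List.mem_append.mpr (Or.inr hz)) hb',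
      fun x hx ↦ Algebra.adjoin_mono (fun z hz ↦ List.mem_append.mpr (Or.inl hz)) (hE hx)⟩

/-- The two towers criteria. -/
theorem univHomeo_iff_towers (hinj : Function.Injective (algebraMap A B)) :
    (FlatMor.IsUnivHomeo (Spec.map (CommRingCat.ofHom (algebraMap A B))) ∧
      ResHyp res (algebraMap A B)) ↔
    ∀ E : Finset B, ∃ l : List B, (↑E : Set B) ⊆ Algebra.adjoin A {b : B | b ∈ l} ∧
      ∀ i : Fin l.length,
        Step res (Algebra.adjoin A {b : B | ∃ j : Fin l.length, j < i ∧ b = l.get j}) (l.get i) := by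
  constructor
  · rintro ⟨hU, hres⟩ E
    obtain ⟨l, hl, hE⟩ := exists_tower hU hres E
    exact ⟨l, hE, hl.get⟩
  · intro h
    have hgood : Good res A B := fun b ↦ by
      obtain ⟨l, hE, hl⟩ := h {b}
      exact (Algebra.adjoin_le (lies_of_get hl) :
        Algebra.adjoin A _ ≤ liesSubalgebra res A B) (hE (by simp))
    exact (good_iff (hgood.isIntegral.comap_surjective hinj)).mp hgood

end Groth.Agent.UHTower
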