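import Groth.Agent.UHTower.Basic
import Mathlib.RingTheory.AdjoinRoot

/-!
# Permanence properties of universally homeomorphic algebras
-/

set_option autoImplicit false
set_option backward.isDefEq.respectTransparency.types false

universe u

open CategoryTheory AlgebraicGeometry

namespace Groth.Agent.UHTower

variable {res : Prop} {A B C : Type u} [CommRing A] [CommRing B] [CommRing C] [Algebra A B]
  [Algebra A C]

theorem universallyClosed_Spec_iff (φ : A →+* B) :
    UniversallyClosed (Spec.map (CommRingCat.ofHom φ)) ↔ φ.IsIntegral := by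
  constructor
  · intro h
    exact IsIntegralHom.SpecMap_iff.mp
      (IsIntegralHom.iff_universallyClosed_and_isAffineHom.mpr ⟨h, inferInstance⟩)
  · intro h
    haveI : IsIntegralHom (Spec.map (CommRingCat.ofHom φ)) := IsIntegralHom.SpecMap_iff.mpr h
    infer_instance

theorem universallyInjective_Spec_iff (φ : A →+* B) :
    UniversallyInjective (Spec.map (CommRingCat.ofHom φ)) ↔
      ∀ (K : Type u) [Field K] (g g' : B →+* K), g.comp φ = g'.comp φ → g = g' := by
  have hiff : UniversallyInjective (Spec.map (CommRingCat.ofHom φ)) ↔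
      ∀ (K : Type u) [Field K], Function.Injective (fun g : Spec (.of K) ⟶ Spec (.of B) ↦
        g ≫ Spec.map (CommRingCat.ofHom φ)) := (tfae_universallyInjective _).out 0 1
  rw [hiff]
  constructor
  · intro h K _ g g' e
    refine congrArg CommRingCat.Hom.hom (Spec.map_injective
      (h K (a₁ := Spec.map (CommRingCat.ofHom g)) (a₂ := Spec.map (CommRingCat.ofHom g')) ?_))
    simp only [← Spec.map_comp, ← CommRingCat.ofHom_comp, e]
  · intro h K _ a b hab
    obtain ⟨a', rfl⟩ := Spec.map_surjective a
    obtain ⟨b', rfl⟩ := Spec.map_surjective b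
    simp only [← Spec.map_comp] at hab
    congr 1
    exact CommRingCat.hom_ext (h K a'.hom b'.hom (congrArg CommRingCat.Hom.hom (Spec.map_injective hab)))

/-- Without residue conditions, `Good` is integral and universally injective. -/
theorem good_false_iff : Good False A B ↔
    UniversallyClosed (Spec.map (CommRingCat.ofHom (algebraMap A B))) ∧
      UniversallyInjective (Spec.map (CommRingCat.ofHom (algebraMap A B))) := by
  rw [universallyClosed_Spec_iff, universallyInjective_Spec_iff]
  exact ⟨fun h ↦ ⟨h.isIntegral, h.field_inj⟩,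
    fun h b ↦ ⟨h.1 b, fun K _ g g' e ↦ RingHom.congr_fun (h.2 K g g' e) b, fun hf ↦ hf.elim⟩⟩

lemma Good.of_surjective (f : C →ₐ[A] B) (hf : Function.Surjective f) (h : Good res A C) :
    Good res A B := fun b ↦ by
  obtain ⟨c, rfl⟩ := hf b
  exact Lies.map f (h c)

lemma Good.subalgebra (h : Good res A B) (S : Subalgebra A B) : Good res A S := by
  have : Algebra.IsIntegral A B := ⟨fun b ↦ (h b).1⟩
  have hint : S.val.toRingHom.IsIntegral := fun b ↦
    IsIntegral.tower_top (A := S) (Algebra.IsIntegral.isIntegral (R := A) b)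
  have hs := hint.comap_surjective (Subtype.val_injective : Function.Injective S.val)
  intro b
  refine ⟨(isIntegral_algHom_iff S.val Subtype.val_injective).mp (h b.1).1,
    fun K _ g g' e ↦ ?_, fun hr Q hQ ↦ ?_⟩
  · let ι := algebraMap K (AlgebraicClosure K)
    obtain ⟨G, hG⟩ := EtaLib.exists_field_extend _ hint hs (ι.comp g)
    obtain ⟨G', hG'⟩ := EtaLib.exists_field_extend _ hint hs (ι.comp g')
    refine ι.injective ?_
    have key := (h b.1).2.1 (AlgebraicClosure K) G G' (RingHom.ext fun a ↦ ?_)
    · exact (RingHom.congr_fun hG b).symm.trans (key.trans (RingHom.congr_fun hG' b))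
    · exact (RingHom.congr_fun hG (algebraMap A S a)).trans
        ((congrArg ι (RingHom.congr_fun e a)).trans
          (RingHom.congr_fun hG' (algebraMap A S a)).symm)
  · obtain ⟨⟨R, hR⟩, hRQ⟩ := hs ⟨Q, hQ⟩
    have hRQ' : R.comap S.val.toRingHom = Q := congrArg PrimeSpectrum.asIdeal hRQ
    obtain ⟨a, s, hs', hm⟩ := (h b.1).2.2 hr R hR
    subst hRQ'
    exact ⟨a, s, hs', hm⟩

lemma surjective_comap_subalgebra (h : Function.Surjective (PrimeSpectrum.comap (algebraMap A B)))
    (S : Subalgebra A B) : Function.Surjective (PrimeSpectrum.comap (algebraMap A S)) := fun P ↦ by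
  obtain ⟨Q, hQ⟩ := h P
  exact ⟨PrimeSpectrum.comap S.val.toRingHom Q, hQ⟩

/-- A surjectivity criterion. -/
lemma surjective_comap_of_field_points
    (h : ∀ (K : Type u) [Field K] [IsAlgClosed K] (g : A →+* K),
      ∃ G : B →+* K, G.comp (algebraMap A B) = g) :
    Function.Surjective (PrimeSpectrum.comap (algebraMap A B)) := fun P ↦ by
  let ι := (algebraMap P.asIdeal.ResidueField (AlgebraicClosure P.asIdeal.ResidueField)).comp
    (algebraMap A P.asIdeal.ResidueField)
  obtain ⟨G, hG⟩ := h _ ι
  refine ⟨⟨RingHom.ker G, RingHom.ker_isPrime G⟩, PrimeSpectrum.ext ?_⟩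
  ext a
  show G (algebraMap A B a) = 0 ↔ _
  rw [show G (algebraMap A B a) = ι a from RingHom.congr_fun hG a]
  simp [ι]

variable (res A B) in
/-- The relative weak normalization / seminormalization. -/
def maxGood : Subalgebra A B :=
  Algebra.adjoin A {b | ∃ S : Subalgebra A B, Good res A S ∧ b ∈ S}

lemma le_maxGood {S : Subalgebra A B} (h : Good res A S) : S ≤ maxGood res A B :=
  fun _ hb ↦ Algebra.subset_adjoin ⟨S, h, hb⟩

lemma good_maxGood : Good res A (maxGood res A B) := by
  refine good_of_adjoin (Algebra.adjoin_adjoin_coe_preimage) ?_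
  rintro ⟨b, hb⟩ ⟨S, hS, hbS⟩
  exact Lies.map (Subalgebra.inclusion (le_maxGood hS)) (hS ⟨b, hbS⟩)

lemma good_range (g : C →ₐ[A] B) (h : Good res A C) : Good res A g.range :=
  Good.of_surjective g.rangeRestrict g.rangeRestrict_surjective h

lemma surjective_comap_maxGood [IsDominant (Spec.map (CommRingCat.ofHom (algebraMap A B)))] :
    Function.Surjective (PrimeSpectrum.comap (algebraMap A (maxGood res A B))) := by
  have hint : (algebraMap A (maxGood res A B)).IsIntegral := good_maxGood.isIntegral
  have hd : DenseRange (PrimeSpectrum.comap (algebraMap A (maxGood res A B))) := by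
    refine Dense.mono ?_ (IsDominant.denseRange (f := Spec.map (CommRingCat.ofHom (algebraMap A B))))
    rintro _ ⟨Q, rfl⟩
    exact ⟨PrimeSpectrum.comap (maxGood res A B).val.toRingHom Q, rfl⟩
  rw [← Set.range_eq_univ, ← (PrimeSpectrum.isClosedMap_comap_of_isIntegral _ hint).isClosed_range.closure_eq]
  exact hd.closure_range

end Groth.Agent.UHTower
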