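import Groth.Agent.UHTower.Main
import Mathlib.Algebra.MvPolynomial.Supported
import Mathlib.Algebra.Category.Ring.FilteredColimits
import Mathlib.CategoryTheory.Limits.Constructions.Over.Connected
import Mathlib.CategoryTheory.Limits.Types.Filtered
import Mathlib.CategoryTheory.Filtered.Connected
import Mathlib.RingTheory.FinitePresentation

/-!
# Universally homeomorphic algebras are filtered colimits of finitely presented ones (Stacks 0CND)
-/

set_option autoImplicit false
set_option backward.isDefEq.respectTransparency.types false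

universe u

open CategoryTheory AlgebraicGeometry MvPolynomial

namespace Groth.Agent.UHTower

variable {res : Prop} {A B : Type u} [CommRing A] [CommRing B] [Algebra A B]

lemma exists_poly {s : Set B} {z : B} (hz : z ∈ Algebra.adjoin A s) :
    ∃ f ∈ supported A s, aeval (id : B → B) f = z := by
  induction hz using Algebra.adjoin_induction with
  | mem x hx => exact ⟨X x, Algebra.subset_adjoin ⟨x, hx, rfl⟩, by simp⟩
  | algebraMap r => exact ⟨MvPolynomial.C r, Subalgebra.algebraMap_mem _ r, by simp⟩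
  | add x y _ _ hx hy =>
    obtain ⟨f, hf, rfl⟩ := hx
    obtain ⟨g, hg, rfl⟩ := hy
    exact ⟨f + g, add_mem hf hg, map_add _ _ _⟩
  | mul x y _ _ hx hy =>
    obtain ⟨f, hf, rfl⟩ := hx
    obtain ⟨g, hg, rfl⟩ := hy
    exact ⟨f * g, mul_mem hf hg, map_mul _ _ _⟩

lemma aeval_mem_adjoin {C : Type u} [CommRing C] [Algebra A C] {s : Set B} {f : MvPolynomial B A}
    (hf : f ∈ supported A s) (x : B → C) : aeval x f ∈ Algebra.adjoin A (x '' s) := by
  have : supported A s ≤ (Algebra.adjoin A (x '' s)).comap (aeval x) := by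
    refine Algebra.adjoin_le ?_
    rintro _ ⟨b, hb, rfl⟩
    simp only [SetLike.mem_coe, Subalgebra.mem_comap, aeval_X]
    exact Algebra.subset_adjoin ⟨b, hb, rfl⟩
  exact this hf

lemma vars_subset_iff {s : Set B} {f : MvPolynomial B A} : ↑f.vars ⊆ s ↔ f ∈ supported A s :=
  mem_supported.symm

/-- The relations of a tower. -/
lemma Tower.exists_relations [DecidableEq (MvPolynomial B A)] {l : List B}
    (h : Tower res (A := A) l) :
    ∃ R : Finset (MvPolynomial B A),
      (∀ r ∈ R, aeval (id : B → B) r = 0 ∧ r ∈ supported A {z | z ∈ l}) ∧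
      ∀ (C : Type u) [CommRing C] [Algebra A C] (x : B → C),
        (∀ r ∈ R, aeval x r = 0) → ∀ b ∈ l, Lies res A (x b) := by
  induction h with
  | nil => exact ⟨∅, by simp, by simp⟩
  | @snoc m b _ hb ih =>
    obtain ⟨R, hR, hR'⟩ := ih
    have hsub : supported A {z | z ∈ m} ≤ supported A {z | z ∈ m ++ [b]} :=
      supported_mono fun z hz ↦ List.mem_append.mpr (Or.inl hz)
    have hXb : X b ∈ supported A {z | z ∈ m ++ [b]} :=
      Algebra.subset_adjoin ⟨b, by simp, rfl⟩
    have hlies : ∀ (C : Type u) [CommRing C] [Algebra A C] (x : B → C),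
        (∀ r ∈ R, aeval x r = 0) → ∀ f ∈ supported A {z | z ∈ m},
          aeval x f ∈ liesSubalgebra res A C := fun C _ _ x hx f hf ↦
      (Algebra.adjoin_le (by rintro _ ⟨z, hz, rfl⟩; exact hR' C x hx z hz) :
        Algebra.adjoin A (x '' {z | z ∈ m}) ≤ _) (aeval_mem_adjoin hf x)
    rcases hb with ⟨h2, h3⟩ | ⟨hr, p, hp, h1, h2⟩
    · obtain ⟨f, hf, hf'⟩ := exists_poly h2
      obtain ⟨g, hg, hg'⟩ := exists_poly h3
      refine ⟨R ∪ {X b ^ 2 - f, X b ^ 3 - g}, fun r hr ↦ ?_, fun C _ _ x hx z hz ↦ ?_⟩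
      · simp only [Finset.mem_union, Finset.mem_insert, Finset.mem_singleton] at hr
        rcases hr with hr | rfl | rfl
        · exact ⟨(hR r hr).1, hsub (hR r hr).2⟩
        · exact ⟨by simp [hf'], sub_mem (pow_mem hXb 2) (hsub hf)⟩
        · exact ⟨by simp [hg'], sub_mem (pow_mem hXb 3) (hsub hg)⟩
      · have hxR : ∀ r ∈ R, aeval x r = 0 := fun r hr ↦ hx r (Finset.mem_union_left _ hr)
        rcases List.mem_append.mp hz with hz | hz
        · exact hR' C x hxR z hz
        · obtain rfl := List.mem_singleton.mp hz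
          refine Lies.of_step (Or.inl ⟨?_, ?_⟩)
          · have := hx (X z ^ 2 - f) (by simp)
            rw [map_sub, map_pow, aeval_X, sub_eq_zero] at this
            exact this ▸ hlies C x hxR f hf
          · have := hx (X z ^ 3 - g) (by simp)
            rw [map_sub, map_pow, aeval_X, sub_eq_zero] at this
            exact this ▸ hlies C x hxR g hg
    · obtain ⟨f, hf, hf'⟩ := exists_poly h1
      obtain ⟨g, hg, hg'⟩ := exists_poly h2
      refine ⟨R ∪ {(p : MvPolynomial B A) * X b - f, X b ^ p - g}, fun r hr ↦ ?_,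
        fun C _ _ x hx z hz ↦ ?_⟩
      · simp only [Finset.mem_union, Finset.mem_insert, Finset.mem_singleton] at hr
        rcases hr with hr | rfl | rfl
        · exact ⟨(hR r hr).1, hsub (hR r hr).2⟩
        · exact ⟨by simp [hf'], sub_mem (mul_mem (natCast_mem _ p) hXb) (hsub hf)⟩
        · exact ⟨by simp [hg'], sub_mem (pow_mem hXb p) (hsub hg)⟩
      · have hxR : ∀ r ∈ R, aeval x r = 0 := fun r hr ↦ hx r (Finset.mem_union_left _ hr)
        rcases List.mem_append.mp hz with hz | hz
        · exact hR' C x hxR z hz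
        · obtain rfl := List.mem_singleton.mp hz
          refine Lies.of_step (Or.inr ⟨hr, p, hp, ?_, ?_⟩)
          · have := hx ((p : MvPolynomial B A) * X z - f) (by simp)
            rw [map_sub, map_mul, map_natCast, aeval_X, sub_eq_zero] at this
            exact this ▸ hlies C x hxR f hf
          · have := hx (X z ^ p - g) (by simp)
            rw [map_sub, map_pow, aeval_X, sub_eq_zero] at this
            exact this ▸ hlies C x hxR g hg

/-- The relations of `R` in the variables `E`. -/
noncomputable def rel (E : Finset B) (R : Finset (MvPolynomial B A)) :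
    Finset (MvPolynomial {b // b ∈ E} A) :=
  R.preimage (rename Subtype.val) (rename_injective _ Subtype.val_injective).injOn

/-- `A[E] / R`. -/
abbrev Quot (E : Finset B) (R : Finset (MvPolynomial B A)) : Type u :=
  MvPolynomial {b // b ∈ E} A ⧸ Ideal.span (rel E R : Set (MvPolynomial {b // b ∈ E} A))

lemma mem_rel {E : Finset B} {R : Finset (MvPolynomial B A)} {r : MvPolynomial {b // b ∈ E} A} :
    r ∈ rel E R ↔ rename Subtype.val r ∈ R := by
  simp [rel]

/-- Transition. -/
noncomputable def trans {E E' : Finset B} {R R' : Finset (MvPolynomial B A)} (hE : E ⊆ E')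
    (hR : R ⊆ R') : Quot E R →ₐ[A] Quot E' R' :=
  Ideal.Quotient.liftₐ _ ((Ideal.Quotient.mkₐ A _).comp (rename fun b ↦ ⟨b.1, hE b.2⟩)) fun a ha ↦ by
    rw [AlgHom.comp_apply, Ideal.Quotient.mkₐ_eq_mk, Ideal.Quotient.eq_zero_iff_mem]
    refine (Ideal.span_le (I := Ideal.comap (rename fun b : {b // b ∈ E} ↦
      (⟨b.1, hE b.2⟩ : {b // b ∈ E'})) (Ideal.span (rel E' R' : Set _)))).mpr ?_ ha
    intro r hr
    refine Ideal.subset_span ?_
    rw [Finset.mem_coe, mem_rel] at hr ⊢
    rw [rename_rename]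
    exact hR hr

lemma trans_mk {E E' : Finset B} {R R' : Finset (MvPolynomial B A)} (hE : E ⊆ E') (hR : R ⊆ R')
    (f : MvPolynomial {b // b ∈ E} A) :
    trans hE hR (Ideal.Quotient.mk _ f) =
      Ideal.Quotient.mk _ (rename (fun b ↦ (⟨b.1, hE b.2⟩ : {b // b ∈ E'})) f) := rfl

/-- Evaluation. -/
noncomputable def toAmb (E : Finset B) (R : Finset (MvPolynomial B A))
    (hR : ∀ r ∈ R, aeval (id : B → B) r = 0) : Quot E R →ₐ[A] B :=
  Ideal.Quotient.liftₐ _ (aeval Subtype.val) fun a ha ↦ by
    refine (Ideal.span_le (I := RingHom.ker (aeval (Subtype.val : {b // b ∈ E} → B)))).mpr ?_ ha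
    intro r hr
    rw [Finset.mem_coe, mem_rel] at hr
    have := hR _ hr
    rwa [aeval_rename] at this

lemma toAmb_mk {E : Finset B} {R : Finset (MvPolynomial B A)}
    (hR : ∀ r ∈ R, aeval (id : B → B) r = 0) (f : MvPolynomial {b // b ∈ E} A) :
    toAmb E R hR (Ideal.Quotient.mk _ f) = aeval Subtype.val f := rfl

lemma quot_hom_ext {E : Finset B} {R : Finset (MvPolynomial B A)} {C : Type u} [CommRing C]
    [Algebra A C] {f g : Quot E R →ₐ[A] C}
    (h : ∀ b, f (Ideal.Quotient.mk _ (X b)) = g (Ideal.Quotient.mk _ (X b))) : f = g :=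
  Ideal.Quotient.algHom_ext _ (MvPolynomial.algHom_ext h)

lemma adjoin_quot (E : Finset B) (R : Finset (MvPolynomial B A)) :
    Algebra.adjoin A (Set.range fun b ↦ (Ideal.Quotient.mk _ (X b) : Quot E R)) = ⊤ := by
  have := congrArg (Subalgebra.map (Ideal.Quotient.mkₐ A
    (Ideal.span (rel E R : Set (MvPolynomial {b // b ∈ E} A))))) (adjoin_range_X (R := A))
  rwa [AlgHom.map_adjoin, ← Set.range_comp, Algebra.map_top,
    (AlgHom.range_eq_top _).mpr (Ideal.Quotient.mkₐ_surjective A _)] at this

variable (res A B)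

/-- The index set. -/
structure Idx where
  E : Finset B
  R : Finset (MvPolynomial B A)
  ker : ∀ r ∈ R, aeval (id : B → B) r = 0
  good : Good res A (Quot E R)

instance : Preorder (Idx res A B) := Preorder.lift fun j ↦ (j.E, j.R)

variable {res A B}

variable (hU : FlatMor.IsUnivHomeo (Spec.map (CommRingCat.ofHom (algebraMap A B))))
  (hres : ResHyp res (algebraMap A B))

include hU hres in
lemma exists_idx (E₀ : Finset B) (R₀ : Finset (MvPolynomial B A))
    (hR₀ : ∀ r ∈ R₀, aeval (id : B → B) r = 0) :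
    ∃ j : Idx res A B, E₀ ⊆ j.E ∧ R₀ ⊆ j.R := by
  classical
  let E := E₀ ∪ R₀.biUnion fun r ↦ r.vars
  obtain ⟨l, hl, hE⟩ := exists_tower (res := res) hU hres E
  obtain ⟨Rl, hRl, hlies⟩ := hl.exists_relations
  have hpoly : ∀ e : {e // e ∈ E}, ∃ f ∈ supported A {z | z ∈ l}, aeval (id : B → B) f = e.1 :=
    fun e ↦ exists_poly (hE e.2)
  choose f hf hf' using hpoly
  let Re : Finset (MvPolynomial B A) := E.attach.image fun e ↦ X e.1 - f e
  let E' := E ∪ l.toFinset
  let R' := R₀ ∪ Rl ∪ Re
  have hker : ∀ r ∈ R', aeval (id : B → B) r = 0 ∧ r ∈ supported A (E' : Set B) := by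
    have hl' : supported A {z | z ∈ l} ≤ supported A (E' : Set B) :=
      supported_mono fun z hz ↦ by simp [E', show z ∈ l from hz]
    intro r hr
    simp only [R', Re, Finset.mem_union, Finset.mem_image, Finset.mem_attach, true_and] at hr
    rcases hr with (hr | hr) | ⟨e, rfl⟩
    · refine ⟨hR₀ r hr, vars_subset_iff.mp fun z hz ↦ ?_⟩
      simp only [E', E, Finset.coe_union, Set.mem_union, Finset.mem_coe, Finset.mem_biUnion]
      exact Or.inl (Or.inr ⟨r, hr, hz⟩)
    · exact ⟨(hRl r hr).1, hl' (hRl r hr).2⟩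
    · refine ⟨by simp [hf'], sub_mem (Algebra.subset_adjoin ⟨e.1, ?_, rfl⟩) (hl' (hf e))⟩
      simp [E', e.2]
  let x : B → Quot E' R' := fun b ↦
    if h : b ∈ E' then Ideal.Quotient.mk _ (X ⟨b, h⟩) else 0
  have hx : ∀ r ∈ R', aeval x r = 0 := by
    intro r hr
    have hr' := (hker r hr).2
    rw [supported_eq_range_rename] at hr'
    obtain ⟨r', rfl⟩ := hr'
    change aeval x (rename Subtype.val r') = 0
    rw [aeval_rename]
    have : (aeval (x ∘ Subtype.val) : MvPolynomial {b // b ∈ E'} A →ₐ[A] Quot E' R') =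
        Ideal.Quotient.mkₐ A _ := MvPolynomial.algHom_ext fun b ↦ by
      simp [x, b.2]
    refine (AlgHom.congr_fun this r').trans (Ideal.Quotient.eq_zero_iff_mem.mpr (Ideal.subset_span ?_))
    exact mem_rel.mpr hr
  have hlL : ∀ b ∈ l, Lies res A (x b) := hlies _ x fun r hr ↦ hx r (by simp [R', hr])
  refine ⟨⟨E', R', fun r hr ↦ (hker r hr).1, good_of_adjoin (adjoin_quot E' R') ?_⟩,
    fun z hz ↦ by simp [E', E, hz], fun r hr ↦ by simp [R', hr]⟩
  rintro _ ⟨⟨b, hb⟩, rfl⟩
  have hxb : Ideal.Quotient.mk _ (X (⟨b, hb⟩ : {b // b ∈ E'})) = x b := by simp [x, hb]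
  show Lies res A (Ideal.Quotient.mk _ (X (⟨b, hb⟩ : {b // b ∈ E'})))
  rw [hxb]
  rcases Finset.mem_union.mp hb with hbE | hbl
  · have := hx (X b - f ⟨b, hbE⟩)
      (Finset.mem_union_right _ (Finset.mem_image.mpr ⟨⟨b, hbE⟩, Finset.mem_attach _ _, rfl⟩))
    rw [map_sub, aeval_X, sub_eq_zero] at this
    rw [this]
    exact (Algebra.adjoin_le (by rintro _ ⟨z, hz, rfl⟩; exact hlL z hz) :
      Algebra.adjoin A (x '' {z | z ∈ l}) ≤ liesSubalgebra res A _) (aeval_mem_adjoin (hf _) x)
  · exact hlL b (List.mem_toFinset.mp hbl)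

instance : IsDirectedOrder (Idx res A B) := by
  classical
  refine ⟨fun i j ↦ ⟨⟨i.E ∪ j.E, i.R ∪ j.R, fun r hr ↦ ?_, good_of_adjoin (adjoin_quot _ _) ?_⟩,
    ⟨Finset.subset_union_left, Finset.subset_union_left⟩,
    ⟨Finset.subset_union_right, Finset.subset_union_right⟩⟩⟩
  · rcases Finset.mem_union.mp hr with h | h
    exacts [i.ker r h, j.ker r h]
  · rintro _ ⟨⟨b, hb⟩, rfl⟩
    rcases Finset.mem_union.mp hb with h | h
    · have := Lies.map (trans (E' := i.E ∪ j.E) (R' := i.R ∪ j.R) Finset.subset_union_left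
        Finset.subset_union_left) (i.good (Ideal.Quotient.mk _ (X ⟨b, h⟩)))
      rwa [trans_mk, rename_X] at this
    · have := Lies.map (trans (E' := i.E ∪ j.E) (R' := i.R ∪ j.R) Finset.subset_union_right
        Finset.subset_union_right) (j.good (Ideal.Quotient.mk _ (X ⟨b, h⟩)))
      rwa [trans_mk, rename_X] at this

variable (res A B)

/-- The diagram. -/
noncomputable def diagram : Idx res A B ⥤ Under (CommRingCat.of A) where
  obj j := Under.mk (CommRingCat.ofHom (algebraMap A (Quot j.E j.R)))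
  map {i j} h := Under.homMk (CommRingCat.ofHom (trans (leOfHom h).1 (leOfHom h).2).toRingHom)
    (CommRingCat.hom_ext (trans (leOfHom h).1 (leOfHom h).2).comp_algebraMap)
  map_id j := by
    ext1
    refine CommRingCat.hom_ext ?_
    exact congrArg AlgHom.toRingHom
      (quot_hom_ext (f := trans (Finset.Subset.refl j.E) (Finset.Subset.refl j.R))
        (g := AlgHom.id A _) fun b ↦ by simp [trans_mk])
  map_comp {i j k} h h' := by
    ext1
    refine CommRingCat.hom_ext ?_
    exact congrArg AlgHom.toRingHom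
      (quot_hom_ext (f := trans (leOfHom (h ≫ h')).1 (leOfHom (h ≫ h')).2)
        (g := (trans (leOfHom h').1 (leOfHom h').2).comp (trans (leOfHom h).1 (leOfHom h).2))
        fun b ↦ by simp [trans_mk])

/-- The cocone. -/
noncomputable def cocone : Limits.Cocone (diagram res A B) where
  pt := Under.mk (CommRingCat.ofHom (algebraMap A B))
  ι :=
    { app := fun j ↦ Under.homMk (CommRingCat.ofHom (toAmb j.E j.R j.ker).toRingHom)
        (CommRingCat.hom_ext (toAmb j.E j.R j.ker).comp_algebraMap)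
      naturality := fun i j h ↦ by
        ext1
        refine CommRingCat.hom_ext ?_
        exact congrArg AlgHom.toRingHom
          (quot_hom_ext (f := (toAmb j.E j.R j.ker).comp (trans (leOfHom h).1 (leOfHom h).2))
            (g := toAmb i.E i.R i.ker) fun b ↦ by simp [trans_mk, toAmb_mk]) }

variable {res A B}

include hU hres in
lemma nonempty_idx : Nonempty (Idx res A B) := by
  obtain ⟨j, -, -⟩ := exists_idx hU hres ∅ ∅ (by simp)
  exact ⟨j⟩

/-- The colimit. -/
noncomputable def isColimit : Limits.IsColimit (cocone res A B) := by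
  haveI : Nonempty (Idx res A B) := nonempty_idx hU hres
  haveI : IsFiltered (Idx res A B) := inferInstance
  haveI : IsConnected (Idx res A B) := IsFiltered.isConnected _
  haveI : Limits.ReflectsColimitsOfShape (Idx res A B) (forget CommRingCat.{u}) :=
    Limits.reflectsColimitsOfShape_of_reflectsIsomorphisms
  apply Limits.isColimitOfReflects (Under.forget (CommRingCat.of A) ⋙ forget CommRingCat.{u})
  refine Limits.Types.FilteredColimit.isColimitOf' _ _ ?_ ?_
  · intro b
    obtain ⟨j, hj, -⟩ := exists_idx hU hres {(b : B)} ∅ (by simp)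
    refine ⟨j, Ideal.Quotient.mk _ (X ⟨(b : B), hj (Finset.mem_singleton_self _)⟩), ?_⟩
    exact (aeval_X (R := A) (Subtype.val : {x // x ∈ j.E} → B)
      ⟨(b : B), hj (Finset.mem_singleton_self _)⟩).symm
  · intro j y z hyz
    obtain ⟨f, rfl⟩ := Ideal.Quotient.mk_surjective y
    obtain ⟨g, rfl⟩ := Ideal.Quotient.mk_surjective z
    have h0 : aeval (id : B → B) (rename Subtype.val (f - g)) = 0 := by
      rw [aeval_rename, map_sub, sub_eq_zero]
      exact hyz
    classical
    obtain ⟨k, hkE, hkR⟩ := exists_idx hU hres j.E (insert (rename Subtype.val (f - g)) j.R)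
      (fun r hr ↦ by
        rcases Finset.mem_insert.mp hr with rfl | hr
        exacts [h0, j.ker r hr])
    refine ⟨k, homOfLE ⟨hkE, fun r hr ↦ hkR (Finset.mem_insert_of_mem hr)⟩, ?_⟩
    have hR' : j.R ⊆ k.R := fun r hr ↦ hkR (Finset.mem_insert_of_mem hr)
    show trans hkE hR' (Ideal.Quotient.mk _ f) = trans hkE hR' (Ideal.Quotient.mk _ g)
    rw [trans_mk, trans_mk, Ideal.Quotient.eq, ← map_sub]
    refine Ideal.subset_span (mem_rel.mpr ?_)
    rw [rename_rename]
    exact hkR (Finset.mem_insert_self _ _)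

include hU in
lemma surjective_comap_quot (j : Idx res A B) :
    Function.Surjective (PrimeSpectrum.comap (algebraMap A (Quot j.E j.R))) := by
  intro P
  obtain ⟨Q, hQ⟩ := ((EtaLib.isUnivHomeo_Spec_iff _).mp hU).2.1 P
  refine ⟨PrimeSpectrum.comap (toAmb j.E j.R j.ker).toRingHom Q, ?_⟩
  rw [← PrimeSpectrum.comap_comp_apply]
  exact (congrArg (fun f ↦ PrimeSpectrum.comap f Q) (toAmb j.E j.R j.ker).comp_algebraMap).trans hQ

include hU hres in
/-- Stacks 0CND. -/
theorem exists_filteredColimit :
    ∃ (J : Type u) (_ : SmallCategory J) (_ : IsFiltered J) (F : J ⥤ Under (CommRingCat.of A))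
      (c : Limits.Cocone F) (_ : Limits.IsColimit c),
      (∀ j, (F.obj j).hom.hom.FinitePresentation ∧
        FlatMor.IsUnivHomeo (Spec.map (F.obj j).hom) ∧ ResHyp res (F.obj j).hom.hom) ∧
      Nonempty (c.pt ≅ Under.mk (CommRingCat.ofHom (algebraMap A B))) := by
  haveI : Nonempty (Idx res A B) := nonempty_idx hU hres
  refine ⟨Idx res A B, inferInstance, inferInstance, diagram res A B, cocone res A B,
    isColimit hU hres, fun j ↦ ⟨?_, ?_⟩, ⟨Iso.refl _⟩⟩
  · show (algebraMap A (Quot j.E j.R)).FinitePresentation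
    rw [RingHom.finitePresentation_algebraMap]
    exact Algebra.FinitePresentation.quotient (Submodule.fg_span (Finset.finite_toSet _))
  · exact (good_iff (surjective_comap_quot hU j)).mp j.good

end Groth.Agent.UHTower
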