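import Groth.Agent.UHTower.Basic
import Mathlib.RingTheory.Adjoin.Tower
import Mathlib.RingTheory.Ideal.MinimalPrime.Basic

/-!
# The key lemma on universally homeomorphic extensions
-/

set_option autoImplicit false
set_option backward.isDefEq.respectTransparency.types false

universe u

open CategoryTheory AlgebraicGeometry

namespace Groth.Agent.UHTower

/-- `b ∉ S`, all high powers in `S`: some `c ∉ S` has `c², c³ ∈ S`. -/
theorem exists_sq_cube {M T : Type*} [Monoid M] [SetLike T M] [SubmonoidClass T M] (S : T) {b : M}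
    (hb : b ∉ S) {N : ℕ} (hN : ∀ m, N ≤ m → b ^ m ∈ S) : ∃ c : M, c ∉ S ∧ c ^ 2 ∈ S ∧ c ^ 3 ∈ S := by
  classical
  have hex : ∃ n, ∀ m, n ≤ m → b ^ m ∈ S := ⟨N, hN⟩
  have hspec := Nat.find_spec hex
  have h2 : 2 ≤ Nat.find hex := by
    by_contra h
    exact hb (by simpa using hspec 1 (by omega))
  have hc : ¬ ∀ m, Nat.find hex - 1 ≤ m → b ^ m ∈ S := Nat.find_min hex (by omega)
  push Not at hc
  obtain ⟨m, hm, hmS⟩ := hc
  have : m = Nat.find hex - 1 := by
    by_contra h
    exact hmS (hspec m (by omega))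
  subst this
  refine ⟨_, hmS, ?_, ?_⟩ <;> rw [← pow_mul] <;> exact hspec _ (by omega)

/-- `b^n, b^(n+1) ∈ S` gives all high powers. -/
theorem pow_mem_of_succ {M T : Type*} [Monoid M] [SetLike T M] [SubmonoidClass T M] (S : T) {b : M}
    {n : ℕ} (hn : 0 < n) (h1 : b ^ n ∈ S) (h2 : b ^ (n + 1) ∈ S) (m : ℕ) (hm : n * n ≤ m) :
    b ^ m ∈ S := by
  have hr : m % n < n := Nat.mod_lt _ hn
  have hq : n ≤ m / n := (Nat.le_div_iff_mul_le hn).mpr hm
  have : m = n * (m / n - m % n) + (n + 1) * (m % n) := by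
    have h3 := Nat.div_add_mod m n
    zify [show m % n ≤ m / n by omega] at h3 ⊢
    linarith
  rw [this, pow_add, pow_mul, pow_mul]
  exact mul_mem (pow_mem h1 _) (pow_mem h2 _)

/-- An element of `A \ p` killing a finitely generated module modulo `⊥`. -/
lemma exists_mul_mem_bot_of_span {A B : Type u} [CommRing A] [CommRing B] [Algebra A B]
    (p : Ideal A) [p.IsPrime] (T : Finset B)
    (hT : ∀ c ∈ T, ∃ s ∉ p, algebraMap A B s * c ∈ (⊥ : Subalgebra A B)) :
    ∃ s ∉ p, ∀ c ∈ Submodule.span A (T : Set B), algebraMap A B s * c ∈ (⊥ : Subalgebra A B) := by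
  choose! s hs hm using hT
  refine ⟨∏ c ∈ T, s c, ?_, fun c hc ↦ ?_⟩
  · rw [Ideal.IsPrime.prod_mem_iff]
    push Not
    exact hs
  · induction hc using Submodule.span_induction with
    | zero => simp
    | add x y _ _ hx hy => rw [mul_add]; exact add_mem hx hy
    | smul a x _ hx => rw [mul_smul_comm]; exact Subalgebra.smul_mem _ hx a
    | mem c hc =>
      classical
      rw [← Finset.prod_erase_mul T s hc, map_mul, mul_assoc]
      exact mul_mem (Subalgebra.algebraMap_mem _ _) (hm c hc)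

/-- Stacks 0CN8/0CN9: a non-trivial universally homeomorphic extension has a non-trivial step. -/
theorem exists_step {A B : Type u} [CommRing A] [CommRing B] [Algebra A B] {res : Prop}
    (hinj : Function.Injective (algebraMap A B))
    (hns : ¬ Function.Surjective (algebraMap A B))
    (hU : FlatMor.IsUnivHomeo (Spec.map (CommRingCat.ofHom (algebraMap A B))))
    (hres : ResHyp res (algebraMap A B)) :
    ∃ b : B, b ∉ (⊥ : Subalgebra A B) ∧ Step res (⊥ : Subalgebra A B) b := by
  classical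
  obtain ⟨hint, hsurj, -⟩ := (EtaLib.isUnivHomeo_Spec_iff _).mp hU
  have : Algebra.IsIntegral A B := ⟨hint⟩
  have hcomap : Function.Injective (PrimeSpectrum.comap (algebraMap A B)) :=
    (FlatBasics.isHomeomorph_of_isUnivHomeo hU).injective
  have hbot : ∀ x : B, x ∈ (⊥ : Subalgebra A B) ↔ x ∈ Set.range (algebraMap A B) :=
    fun x ↦ Algebra.mem_bot
  by_contra hcon
  push Not at hcon
  have hpow : ∀ (b : B) (N : ℕ), (∀ m, N ≤ m → b ^ m ∈ (⊥ : Subalgebra A B)) →
      b ∈ (⊥ : Subalgebra A B) := by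
    intro b N hN
    by_contra hb
    obtain ⟨c, hc, h2, h3⟩ := exists_sq_cube (⊥ : Subalgebra A B) hb hN
    exact hcon c hc (Or.inl ⟨h2, h3⟩)
  obtain ⟨b₀, hb₀⟩ : ∃ b : B, b ∉ (⊥ : Subalgebra A B) := by
    by_contra h
    push Not at h
    exact hns fun b ↦ (hbot b).mp (h b)
  let C : Subalgebra A B := Algebra.adjoin A {b₀}
  have : Module.Finite A C := Algebra.finite_adjoin_simple_of_isIntegral (hint b₀)
  -- the conductor
  let J : Ideal A :=
    { carrier := {a | ∀ c ∈ C, algebraMap A B a * c ∈ (⊥ : Subalgebra A B)}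
      add_mem' := fun ha hb c hc ↦ by rw [map_add, add_mul]; exact add_mem (ha c hc) (hb c hc)
      zero_mem' := fun c _ ↦ by simp
      smul_mem' := fun r a ha c hc ↦ by
        rw [smul_eq_mul, map_mul, mul_assoc]
        exact mul_mem (Subalgebra.algebraMap_mem _ _) (ha c hc) }
  have hJ : J ≠ ⊤ := fun h ↦ hb₀ (by
    have h1 : (1 : A) ∈ J := h ▸ Submodule.mem_top
    simpa using h1 b₀ (Algebra.self_mem_adjoin_singleton A b₀))
  obtain ⟨m, hm, hJm⟩ := Ideal.exists_le_maximal J hJ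
  obtain ⟨p, hp, -⟩ := Ideal.exists_minimalPrimes_le hJm
  have : p.IsPrime := hp.1.1
  obtain ⟨Q, hQ⟩ := hsurj ⟨p, ‹_›⟩
  have hQp : ∀ a, algebraMap A B a ∈ Q.asIdeal ↔ a ∈ p := fun a ↦ by
    rw [← Ideal.mem_comap]
    exact iff_of_eq (congrArg (fun P : PrimeSpectrum A ↦ a ∈ P.asIdeal) hQ)
  -- step 1
  have h1 : ∀ x ∈ C, x ∈ Q.asIdeal → ∃ s ∉ p, algebraMap A B s * x ∈ (⊥ : Subalgebra A B) := by
    intro x hx hxQ
    let xC : C := ⟨x, hx⟩
    let I : Ideal C :=
      { carrier := {y | ∀ c ∈ C, (y : B) * c ∈ (⊥ : Subalgebra A B)}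
        add_mem' := fun ha hb c hc ↦ by
          rw [Subalgebra.coe_add, add_mul]; exact add_mem (ha c hc) (hb c hc)
        zero_mem' := fun c _ ↦ by simp
        smul_mem' := fun r a ha c hc ↦ by
          rw [smul_eq_mul, Subalgebra.coe_mul, mul_comm (r : B), mul_assoc]
          exact ha _ (mul_mem r.2 hc) }
    let M : Submonoid C := (p.primeCompl.map (algebraMap A C)) ⊔ Submonoid.powers xC
    have hne : ¬ Disjoint (I : Set C) M := by
      intro hd
      obtain ⟨P, hP, hIP, hPM⟩ := Ideal.exists_le_prime_disjoint I M hd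
      have hle : J ≤ P.comap (algebraMap A C) := fun a ha ↦ hIP fun c hc ↦ ha c hc
      have hle' : P.comap (algebraMap A C) ≤ p := fun a ha ↦ by
        by_contra hap
        exact Set.disjoint_left.mp hPM ha
          (le_sup_left (b := Submonoid.powers xC) (Submonoid.mem_map_of_mem _ (show a ∈ p.primeCompl from hap)))
      have heq : P.comap (algebraMap A C) = p :=
        le_antisymm hle' (hp.2 ⟨Ideal.IsPrime.comap _, hle⟩ hle')
      have : Algebra.IsIntegral C B :=
        ⟨fun b ↦ IsIntegral.tower_top (R := A) (Algebra.IsIntegral.isIntegral b)⟩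
      obtain ⟨R, hR⟩ := (algebraMap_isIntegral_iff.mpr ‹Algebra.IsIntegral C B›).comap_surjective
        Subtype.val_injective ⟨P, hP⟩
      have hRQ : R = Q := hcomap (PrimeSpectrum.ext (by
        have hR' : R.asIdeal.comap (algebraMap C B) = P := congrArg PrimeSpectrum.asIdeal hR
        refine Eq.trans ?_ (congrArg PrimeSpectrum.asIdeal hQ).symm
        show R.asIdeal.comap (algebraMap A B) = p
        rw [← heq, ← hR', Ideal.comap_comap, ← IsScalarTower.algebraMap_eq]))
      subst hRQ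
      have hxP : xC ∈ P := by
        rw [← show R.asIdeal.comap (algebraMap C B) = P from congrArg PrimeSpectrum.asIdeal hR]
        exact hxQ
      exact Set.disjoint_left.mp hPM hxP (le_sup_right (a := p.primeCompl.map (algebraMap A C))
        (Submonoid.mem_powers xC))
    obtain ⟨y, hyI, hyM⟩ := Set.not_disjoint_iff.mp hne
    obtain ⟨_, ⟨s, hs, rfl⟩, _, ⟨n, rfl⟩, rfl⟩ := Submonoid.mem_sup.mp hyM
    refine ⟨s, hs, hpow _ (n + 1) fun k hk ↦ ?_⟩
    have h := hyI (algebraMap A B s ^ (k - 1) * x ^ (k - n))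
      (mul_mem (pow_mem (Subalgebra.algebraMap_mem C s) _) (pow_mem hx _))
    have he : (algebraMap A B s * x) ^ k =
        algebraMap A B s * x ^ n * (algebraMap A B s ^ (k - 1) * x ^ (k - n)) := by
      rw [mul_mul_mul_comm, ← pow_succ', ← pow_add, mul_pow]
      congr 2 <;> omega
    rw [he]
    exact h
  -- step 2
  have h2 : ∀ c ∈ C, ∀ a s : A, s ∉ p → algebraMap A B s * c - algebraMap A B a ∈ Q.asIdeal →
      ∃ t ∉ p, algebraMap A B t * c ∈ (⊥ : Subalgebra A B) := by
    intro c hc a s hs hcQ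
    obtain ⟨t, ht, htm⟩ := h1 _
      (sub_mem (mul_mem (Subalgebra.algebraMap_mem C s) hc) (Subalgebra.algebraMap_mem C a)) hcQ
    refine ⟨t * s, fun h ↦ (‹p.IsPrime›.mem_or_mem h).elim ht hs, ?_⟩
    have := add_mem htm (Subalgebra.algebraMap_mem (⊥ : Subalgebra A B) (t * a))
    rw [map_mul] at this ⊢
    convert this using 1
    ring
  obtain ⟨c, hcC, hcL⟩ : ∃ c ∈ C, ∀ t ∉ p, algebraMap A B t * c ∉ (⊥ : Subalgebra A B) := by
    by_contra h
    push Not at h
    obtain ⟨T, hT⟩ := (Module.Finite.iff_fg.mp ‹Module.Finite A C› : (C.toSubmodule).FG)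
    obtain ⟨s, hs, hsT⟩ := exists_mul_mem_bot_of_span p T fun c hc ↦
      h c (show c ∈ C.toSubmodule from hT ▸ Submodule.subset_span hc)
    exact hs (hp.1.2 fun c hc ↦ hsT c (hT.symm ▸ (show c ∈ C.toSubmodule from hc)))
  by_cases hr : res
  · obtain ⟨a, s, hs, hm'⟩ := (surjective_residueFieldMap_iff _).mp (hres hr) Q.asIdeal Q.isPrime c
    obtain ⟨t, ht, htm⟩ := h2 c hcC a s (fun h ↦ hs ((hQp s).mpr h)) hm'
    exact hcL t ht htm
  · obtain ⟨n, hn⟩ := EtaLib.pow_mem_of_isUnivHomeo _ hU Q (algebraMap B Q.asIdeal.ResidueField c)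
    obtain ⟨q, hq⟩ : ∃ q, q = ringExpChar (PrimeSpectrum.comap (algebraMap A B) Q).asIdeal.ResidueField :=
      ⟨_, rfl⟩
    rw [← hq] at hn
    obtain ⟨r, hr'⟩ := hn
    obtain ⟨u, w, hw, rfl⟩ := IsFractionRing.div_surjective
      (A := A ⧸ (PrimeSpectrum.comap (algebraMap A B) Q).asIdeal) r
    obtain ⟨a, rfl⟩ := Ideal.Quotient.mk_surjective u
    obtain ⟨s, rfl⟩ := Ideal.Quotient.mk_surjective w
    have hs : s ∉ p := fun h ↦ nonZeroDivisors.ne_zero hw
      (Ideal.Quotient.eq_zero_iff_mem.mpr (show algebraMap A B s ∈ Q.asIdeal from (hQp s).mpr h))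
    have hmem : algebraMap A B s * c ^ q ^ n - algebraMap A B a ∈ Q.asIdeal := by
      rw [← Ideal.algebraMap_residueField_eq_zero (I := Q.asIdeal), map_sub, map_mul, map_pow, ← hr',
        map_div₀, sub_eq_zero]
      have e : ∀ z, Ideal.ResidueField.map (PrimeSpectrum.comap (algebraMap A B) Q).asIdeal Q.asIdeal
          (algebraMap A B) rfl (algebraMap (A ⧸ (PrimeSpectrum.comap (algebraMap A B) Q).asIdeal) _
            (Ideal.Quotient.mk _ z)) = algebraMap B Q.asIdeal.ResidueField (algebraMap A B z) :=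
        fun z ↦ Ideal.ResidueField.map_algebraMap _ _ (algebraMap A B) rfl z
      rw [e, e, mul_div_cancel₀]
      exact fun h0 ↦ hs ((hQp s).mp (Ideal.algebraMap_residueField_eq_zero.mp h0))
    have hex : ∃ k, ∃ t ∉ p, algebraMap A B t * c ^ q ^ k ∈ (⊥ : Subalgebra A B) :=
      ⟨n, h2 _ (pow_mem hcC _) a s hs hmem⟩
    obtain ⟨t₁, ht₁, hm₁⟩ := Nat.find_spec hex
    have hk : Nat.find hex ≠ 0 := by
      intro h
      rw [h, pow_zero, pow_one] at hm₁
      exact hcL t₁ ht₁ hm₁
    obtain ⟨k, hk'⟩ := Nat.exists_eq_succ_of_ne_zero hk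
    rw [hk', pow_succ, pow_mul] at hm₁
    have hexp : ExpChar (PrimeSpectrum.comap (algebraMap A B) Q).asIdeal.ResidueField q :=
      hq ▸ ringExpChar.expChar _
    rcases expChar_is_prime_or_one (PrimeSpectrum.comap (algebraMap A B) Q).asIdeal.ResidueField q
      with hqp | hq1
    swap
    · subst hq1
      simp only [one_pow, pow_one] at hm₁
      exact hcL t₁ ht₁ hm₁
    have hqQ : (q : B) ∈ Q.asIdeal := by
      have : CharP (PrimeSpectrum.comap (algebraMap A B) Q).asIdeal.ResidueField q := by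
        obtain _ | ⟨hp'⟩ := hexp
        · exact absurd hqp Nat.not_prime_one
        · assumption
      have h0 : algebraMap A (PrimeSpectrum.comap (algebraMap A B) Q).asIdeal.ResidueField (q : A) = 0 := by
        rw [map_natCast, CharP.cast_eq_zero]
      have h0' : (q : A) ∈ (PrimeSpectrum.comap (algebraMap A B) Q).asIdeal :=
        Ideal.algebraMap_residueField_eq_zero.mp h0
      simpa using show algebraMap A B (q : A) ∈ Q.asIdeal from h0'
    obtain ⟨t₂, ht₂, hm₂⟩ := h1 ((q : B) * c ^ q ^ k) (mul_mem (natCast_mem C q) (pow_mem hcC _))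
      (Q.asIdeal.mul_mem_right _ hqQ)
    have hmin : ∀ t ∉ p, algebraMap A B t * c ^ q ^ k ∉ (⊥ : Subalgebra A B) := fun t ht h ↦
      Nat.find_min hex (by omega : k < Nat.find hex) ⟨t, ht, h⟩
    refine hcon (algebraMap A B (t₁ * t₂) * c ^ q ^ k)
      (hmin _ fun h ↦ (‹p.IsPrime›.mem_or_mem h).elim ht₁ ht₂) (Or.inr ⟨hr, q, hqp, ?_, ?_⟩)
    · have := mul_mem (Subalgebra.algebraMap_mem (⊥ : Subalgebra A B) t₁) hm₂
      rw [map_mul]
      convert this using 1
      ring
    · have := mul_mem (Subalgebra.algebraMap_mem (⊥ : Subalgebra A B) (t₁ ^ (q - 1) * t₂ ^ q)) hm₁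
      convert this using 1
      rw [map_mul, map_mul, map_pow, map_pow]
      obtain ⟨q', hq'⟩ : ∃ q', q = q' + 1 := ⟨q - 1, by have := hqp.pos; omega⟩
      rw [hq']
      simp only [Nat.add_sub_cancel]
      ring

end Groth.Agent.UHTower
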